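import Cfsg.Agent.Lib.PGroup.Extraspecial
import Cfsg.Agent.Lib.Coprime.Generation

/-!
# An extraspecial group of exponent `p` with fixed-point-free centre moves some vector

`exists_moved`: for odd `p` and a nontrivial coprime module there is a vector moved by every
non-identity element.
-/

open Subgroup
open scoped commutatorElement

namespace Cfsg.Agent.ClassSubnormal

set_option linter.unusedSectionVars false

universe u v

variable {p : ℕ} [hp : Fact p.Prime]

/-- The fixed points of an automorphism. -/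
def fixAut {U : Type*} [Group U] (f : MulAut U) : Subgroup U where
  carrier := {w | f w = w}
  one_mem' := map_one f
  mul_mem' := fun {a b} (ha : f a = a) (hb : f b = b) => show f (a * b) = a * b by rw [map_mul, ha, hb]
  inv_mem' := fun {a} (ha : f a = a) => show f a⁻¹ = a⁻¹ by rw [map_inv, ha]

theorem mem_fixAut {U : Type*} [Group U] {f : MulAut U} {w : U} : w ∈ fixAut f ↔ f w = w := Iff.rfl

theorem eq_one_of_pow {U : Type*} [Group U] [Finite U] (hcop : ¬ p ∣ Nat.card U) {w : U} (h : w ^ p = 1) :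
    w = 1 := by
  refine orderOf_eq_one_iff.1 (Nat.eq_one_of_dvd_coprimes (hp.out.coprime_iff_not_dvd.2 hcop)
    (orderOf_dvd_of_pow_eq_one h) (orderOf_dvd_natCard w))

variable {E : Type u} [Group E] [Finite E] {U : Type v} [CommGroup U] [Finite U] (φ : E →* MulAut U)

theorem card_fix_conj (y x : E) :
    Nat.card (fixAut (φ (y * x * y⁻¹))) = Nat.card (fixAut (φ x)) := by
  refine (Nat.card_congr (Equiv.subtypeEquiv (φ y).toEquiv fun w => ?_)).symm
  show φ x w = w ↔ φ (y * x * y⁻¹) (φ y w) = φ y w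
  rw [← MulAut.mul_apply, ← map_mul, inv_mul_cancel_right, map_mul, MulAut.mul_apply]
  exact ((φ y).injective.eq_iff).symm

variable {φ}

theorem IsES_conj (h : PGroup.IsES p E) {x z y : E} (hy : ⁅y, x⁆ = z) (i : ℕ) :
    y ^ i * x * (y ^ i)⁻¹ = z ^ i * x := by
  rw [← hy, ← h.comm_pow_left, commutatorElement_def, inv_mul_cancel_right]

theorem fix_pow_le (h : PGroup.IsES p E) (hexp : ∀ e : E, e ^ p = 1) (hcop : ¬ p ∣ Nat.card U)
    (hz : ∀ z ∈ center E, z ≠ 1 → ∀ w, φ z w = w → w = 1) {x : E} (hx : x ∉ center E) :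
    Nat.card (fixAut (φ x)) ^ p ≤ Nat.card U := by
  classical
  obtain ⟨z, hzc, hz1⟩ := h.exists_center_ne_one
  obtain ⟨y, hy⟩ := h.exists_comm_eq hx hzc
  let F : Fin p → Subgroup U := fun i => fixAut (φ (z ^ (i : ℕ) * x))
  have hcard : ∀ i, Nat.card (F i) = Nat.card (fixAut (φ x)) := fun i => by
    show Nat.card (fixAut (φ (z ^ (i : ℕ) * x))) = _
    rw [← IsES_conj h hy, card_fix_conj]
  let f : (∀ i, F i) → U := fun w => ∏ i, (w i : U)
  have hinj : Function.Injective f := by
    intro a b hab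
    funext j
    set g := z ^ (j : ℕ) * x with hg
    let N : U → U := fun w => ∏ k ∈ Finset.range p, ((φ g) ^ k) w
    have hgN : ∀ w, φ g (N w) = N w := by
      intro w
      show φ g (∏ k ∈ Finset.range p, ((φ g) ^ k) w) = _
      rw [map_prod]
      have h1 : ∀ k, φ g (((φ g) ^ k) w) = ((φ g) ^ (k + 1)) w := fun k => by
        rw [pow_succ', MulAut.mul_apply]
      simp_rw [h1]
      have h2 := Finset.prod_range_succ' (fun k => ((φ g) ^ k) w) p
      rw [Finset.prod_range_succ, ← map_pow φ g p, hexp, map_one, pow_zero] at h2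
      exact (mul_right_cancel h2).symm
    have hNmul : ∀ (s : Finset (Fin p)) (c : Fin p → U), N (∏ i ∈ s, c i) = ∏ i ∈ s, N (c i) := by
      intro s c
      show (∏ k ∈ Finset.range p, ((φ g) ^ k) (∏ i ∈ s, c i)) = _
      simp_rw [map_prod]
      exact Finset.prod_comm
    have hNother : ∀ i, i ≠ j → ∀ w ∈ F i, N w = 1 := by
      intro i hij w hw
      set g' := z ^ (i : ℕ) * x with hg'
      have hcg : Commute g' g := by
        have hzx : ∀ k : ℕ, Commute (z ^ k) x := fun k =>
          (show Commute z x from (mem_center_iff.1 hzc x).symm).pow_left k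
        exact (((Commute.refl z).pow_pow _ _).mul_right (hzx _)).mul_left
          (((hzx _).symm).mul_right (Commute.refl x))
      have h1 : φ g' (N w) = N w := by
        show φ g' (∏ k ∈ Finset.range p, ((φ g) ^ k) w) = _
        rw [map_prod]
        refine Finset.prod_congr rfl fun k _ => ?_
        rw [← MulAut.mul_apply, ← map_pow, ← map_mul, (hcg.pow_right k).eq, map_mul, MulAut.mul_apply,
          show φ g' w = w from hw, map_pow]
      refine hz (g * g'⁻¹) ?_ ?_ _ ?_
      · rw [hg, hg', mul_inv_rev, ← mul_assoc, mul_inv_cancel_right]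
        exact mul_mem (pow_mem hzc _) (inv_mem (pow_mem hzc _))
      · intro he
        rw [mul_inv_eq_one, hg, hg', mul_left_inj] at he
        have hzo : orderOf z = p := orderOf_eq_prime (hexp z) hz1
        exact hij (Fin.ext (pow_injOn_Iio_orderOf (by rw [Set.mem_Iio, hzo]; exact i.isLt)
          (by rw [Set.mem_Iio, hzo]; exact j.isLt) he.symm))
      · rw [map_mul, MulAut.mul_apply]
        conv_lhs => rw [show φ g'⁻¹ (N w) = N w by
          conv_lhs => rw [← h1]
          rw [← MulAut.mul_apply, ← map_mul, inv_mul_cancel, map_one, MulAut.one_apply]]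
        exact hgN w
    have hNself : ∀ w ∈ F j, N w = w ^ p := by
      intro w hw
      have hk : ∀ k : ℕ, ((φ g) ^ k) w = w := fun k => by
        induction k with
        | zero => rw [pow_zero, MulAut.one_apply]
        | succ k ih => rw [pow_succ, MulAut.mul_apply, show φ g w = w from hw, ih]
      show (∏ k ∈ Finset.range p, ((φ g) ^ k) w) = _
      simp_rw [hk]
      rw [Finset.prod_const, Finset.card_range]
    have h1 : N (∏ i, ((a i : U) * (b i : U)⁻¹)) = 1 := by
      rw [Finset.prod_mul_distrib, Finset.prod_inv_distrib, show (∏ i, (a i : U)) = ∏ i, (b i : U) from hab,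
        mul_inv_cancel]
      show (∏ k ∈ Finset.range p, ((φ g) ^ k) (1 : U)) = 1
      simp
    rw [hNmul, Finset.prod_eq_single j (fun i _ hij => hNother i hij _ (mul_mem (a i).2 (inv_mem (b i).2)))
      (fun hh => absurd (Finset.mem_univ j) hh), hNself _ (mul_mem (a j).2 (inv_mem (b j).2))] at h1
    exact Subtype.ext (mul_inv_eq_one.1 (eq_one_of_pow hcop h1))
  calc Nat.card (fixAut (φ x)) ^ p = Nat.card (∀ i, F i) := by
        rw [Nat.card_pi]; simp [hcard]
    _ ≤ Nat.card U := Nat.card_le_card_of_injective f hinj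

theorem fix_ne_bot (h : PGroup.IsES p E) (hexp : ∀ e : E, e ^ p = 1) (hcop : ¬ p ∣ Nat.card U)
    [Nontrivial U] (hz : ∀ z ∈ center E, z ≠ 1 → ∀ w, φ z w = w → w = 1) {x : E} (hx : x ∉ center E) :
    1 < Nat.card (fixAut (φ x)) := by
  by_contra hle
  push Not at hle
  obtain ⟨z, hzc, hz1⟩ := h.exists_center_ne_one
  obtain ⟨y, hy⟩ := h.exists_comm_eq hx hzc
  have hzx : Commute x z := mem_center_iff.1 hzc x
  have hsmall : ∀ (k : ℕ) (w : U), φ (z ^ k * x) w = w → w = 1 := by
    intro k w hw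
    have h1 : Nat.card (fixAut (φ (z ^ k * x))) ≤ 1 := by rw [← IsES_conj h hy, card_fix_conj]; exact hle
    have h2 : fixAut (φ (z ^ k * x)) = ⊥ :=
      Subgroup.card_eq_one.1 (le_antisymm h1 Nat.card_pos)
    exact mem_bot.1 (h2 ▸ (mem_fixAut.2 hw : w ∈ fixAut (φ (z ^ k * x))))
  obtain ⟨w₀, hw₀⟩ := exists_ne (1 : U)
  refine hw₀ (eq_one_of_pow hcop (mem_bot.1 (Coprime.pow_mem_of_pair_aut (φ x) (φ z) (hzx.map φ) hp.out
    (by rw [← map_pow, hexp, map_one]) (by rw [← map_pow, hexp, map_one]) ⊥ (fun i j hij w hw => ?_) w₀)))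
  rw [← map_pow, ← map_pow, ← map_mul] at hw
  rw [mem_bot]
  have hstab : ∀ k : ℕ, φ ((x ^ i * z ^ j) ^ k) w = w := fun k => by
    induction k with
    | zero => rw [pow_zero, map_one, MulAut.one_apply]
    | succ k ih => rw [pow_succ, map_mul, MulAut.mul_apply, hw, ih]
  by_cases hi : p ∣ i
  · obtain ⟨l, rfl⟩ := hi
    rw [pow_mul, hexp, one_pow, one_mul] at hw
    refine hz (z ^ j) (pow_mem hzc j) (fun he => hij ⟨dvd_mul_right p l, ?_⟩) w hw
    exact (orderOf_eq_prime (hexp z) hz1) ▸ orderOf_dvd_of_pow_eq_one he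
  · obtain ⟨k, hk⟩ := exists_pow_eq_self_of_coprime (x := x) (n := i) (by
      rw [orderOf_eq_prime (hexp x) fun e => hx (e ▸ one_mem _)]
      exact (hp.out.coprime_iff_not_dvd.2 hi).symm)
    refine hsmall (j * k) w ?_
    have h1 := hstab k
    rw [(hzx.pow_pow i j).mul_pow, hk, ← pow_mul, (hzx.pow_right (j * k)).eq] at h1
    exact h1

/-- The restriction of an action to fixed points of a centralized element. -/
def restrictFix (φ : E →* MulAut U) (x : E) (K : Subgroup E) (hK : ∀ c ∈ K, Commute c x) :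
    K →* MulAut (fixAut (φ x)) where
  toFun c :=
    { toFun := fun w => ⟨φ (c : E) w, by
        show φ x (φ (c : E) w) = φ (c : E) w
        rw [← MulAut.mul_apply, ← map_mul, ← (hK c c.2).eq, map_mul, MulAut.mul_apply, mem_fixAut.1 w.2]⟩
      invFun := fun w => ⟨φ ((c : E)⁻¹) w, by
        show φ x (φ (c : E)⁻¹ w) = φ (c : E)⁻¹ w
        rw [← MulAut.mul_apply, ← map_mul, ← ((hK c c.2).inv_left).eq, map_mul, MulAut.mul_apply,
          mem_fixAut.1 w.2]⟩
      left_inv := fun w => Subtype.ext (by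
        show φ (c : E)⁻¹ (φ (c : E) w) = (w : U)
        rw [← MulAut.mul_apply, ← map_mul, inv_mul_cancel, map_one, MulAut.one_apply])
      right_inv := fun w => Subtype.ext (by
        show φ (c : E) (φ (c : E)⁻¹ w) = (w : U)
        rw [← MulAut.mul_apply, ← map_mul, mul_inv_cancel, map_one, MulAut.one_apply])
      map_mul' := fun a b => Subtype.ext (map_mul (φ (c : E)) _ _) }
  map_one' := MulEquiv.ext fun w => Subtype.ext (by
    show φ ((1 : K) : E) w = (w : U)
    rw [Subgroup.coe_one, map_one, MulAut.one_apply])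
  map_mul' a b := MulEquiv.ext fun w => Subtype.ext (by
    show φ ((a * b : K) : E) w = φ (a : E) (φ (b : E) w)
    rw [Subgroup.coe_mul, map_mul, MulAut.mul_apply])

theorem card_lower (hp2 : p ≠ 2) : ∀ (r : ℕ) (E : Type u) [Group E] [Finite E] (U : Type v) [CommGroup U]
    [Finite U] [Nontrivial U] (φ : E →* MulAut U), PGroup.IsES p E → (∀ e : E, e ^ p = 1) →
    ¬ p ∣ Nat.card U → (∀ z ∈ center E, z ≠ 1 → ∀ w, φ z w = w → w = 1) →
    Nat.card E = p ^ (2 * r + 1) → (p + 1) ^ (p ^ r) ≤ Nat.card U := by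
  intro r
  induction r with
  | zero =>
    intro E _ _ U _ _ _ φ h hexp hcop hz hE
    rw [pow_zero, pow_one]
    obtain ⟨z, hzc, hz1⟩ := h.exists_center_ne_one
    let : MulAction E U := MulAction.compHom U φ
    have hEp : IsPGroup p E := h.isPGroup
    have hmod := hEp.card_modEq_card_fixedPoints U
    have hfix : MulAction.fixedPoints E U = {1} := by
      ext w
      refine ⟨fun hw => hz z hzc hz1 w (hw z), ?_⟩
      rintro rfl
      exact fun e => map_one (φ e)
    have h1 : Nat.card (MulAction.fixedPoints E U) = 1 := by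
      rw [hfix, Nat.card_eq_one_iff_unique]
      exact ⟨⟨fun a b => Subtype.ext (a.2.trans b.2.symm)⟩, ⟨⟨1, rfl⟩⟩⟩
    rw [h1] at hmod
    have h2 : 1 < Nat.card U := Finite.one_lt_card
    have h3 : p ∣ Nat.card U - 1 := (Nat.modEq_iff_dvd' (by omega)).1 hmod.symm
    have := Nat.le_of_dvd (by omega) h3
    omega
  | succ r ih =>
    intro E _ _ U _ _ _ φ h hexp hcop hz hE
    obtain ⟨x, hx⟩ := (h.eq_center_or_pair).resolve_left (fun e => by
      rw [e] at hE
      have := Nat.pow_right_injective hp.out.two_le (a₁ := 1) (a₂ := 2 * (r + 1) + 1) (by simpa using hE)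
      omega)
    obtain ⟨z, hzc, hz1⟩ := h.exists_center_ne_one
    obtain ⟨P, hPx, -⟩ := h.exists_pair hx hzc hz1
    have hC : Nat.card P.C = p ^ (2 * r + 1) := by
      have h1 := P.card_eq h
      rw [hE, show 2 * (r + 1) + 1 = 2 + (2 * r + 1) by ring, pow_add] at h1
      exact (Nat.eq_of_mul_eq_mul_left (Nat.pow_pos hp.out.pos) h1).symm
    haveI : Nontrivial (fixAut (φ x)) :=
      Finite.one_lt_card_iff_nontrivial.1 (fix_ne_bot h hexp hcop hz hx)
    have h2 := ih P.C (fixAut (φ x))
      (restrictFix φ x P.C fun c hc => hPx ▸ (P.mem_C.1 hc).1) (P.isES h)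
      (fun c => Subtype.ext (hexp c)) (fun hd => hcop (hd.trans (card_subgroup_dvd_card _)))
      (fun c hc hc1 w hw => Subtype.ext (hz c (P.center_C h ▸ mem_map_of_mem P.C.subtype hc)
        (fun e => hc1 (Subtype.ext e)) w (congrArg Subtype.val hw))) hC
    calc (p + 1) ^ (p ^ (r + 1)) = ((p + 1) ^ (p ^ r)) ^ p := by rw [← pow_mul, pow_succ]
      _ ≤ Nat.card (fixAut (φ x)) ^ p := Nat.pow_le_pow_left h2 p
      _ ≤ _ := fix_pow_le h hexp hcop hz hx

theorem two_mul_le_pow_mul {q : ℕ} (hq : 3 ≤ q) : ∀ r : ℕ, 2 * (r + 1) ≤ q ^ r * (q - 1)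
  | 0 => by simp; omega
  | r + 1 => by
    have h := two_mul_le_pow_mul hq r
    have h1 : q ^ r * (q - 1) * 2 ≤ q ^ (r + 1) * (q - 1) := by
      rw [pow_succ]
      calc q ^ r * (q - 1) * 2 ≤ q ^ r * (q - 1) * q := Nat.mul_le_mul_left _ (by omega)
        _ = _ := by ring
    omega

/-- Some vector is moved by every non-identity element. -/
theorem exists_moved (hp2 : p ≠ 2) (h : PGroup.IsES p E) (hexp : ∀ e : E, e ^ p = 1)
    (hcop : ¬ p ∣ Nat.card U) [Nontrivial U]
    (hz : ∀ z ∈ center E, z ≠ 1 → ∀ w, φ z w = w → w = 1) :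
    ∃ w : U, ∀ e : E, e ≠ 1 → φ e w ≠ w := by
  classical
  haveI := Fintype.ofFinite E
  haveI := Fintype.ofFinite U
  by_cases hall : ∀ x : E, x ∈ center E
  · obtain ⟨w, hw⟩ := exists_ne (1 : U)
    exact ⟨w, fun e he hfix => hw (hz e (hall e) he w hfix)⟩
  push Not at hall
  obtain ⟨x₀, hx₀⟩ := hall
  by_contra! hno
  haveI : Nonempty {x : E // x ∉ center E} := ⟨⟨x₀, hx₀⟩⟩
  obtain ⟨⟨x, hx⟩, hmax⟩ := Finite.exists_max fun a : {x : E // x ∉ center E} => Nat.card (fixAut (φ a.1))
  set M := Nat.card (fixAut (φ x)) with hM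
  obtain ⟨r', hr'⟩ := PGroup.IsES.card_eq_odd_pow (Nat.card E) E h le_rfl
  obtain ⟨r, rfl⟩ : ∃ r, r' = r + 1 := Nat.exists_eq_succ_of_ne_zero fun e => hx₀ (by
    have h1 : center E = ⊤ := eq_top_of_card_eq _ (by rw [h.card_center, hr', e]; simp)
    exact h1 ▸ mem_top x₀)
  -- lower bound for `M`
  have hMlow : (p + 1) ^ (p ^ r) ≤ M := by
    obtain ⟨z, hzc, hz1⟩ := h.exists_center_ne_one
    obtain ⟨P, hPx, -⟩ := h.exists_pair hx hzc hz1
    have hC : Nat.card P.C = p ^ (2 * r + 1) := by
      have h1 := P.card_eq h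
      rw [hr', show 2 * (r + 1) + 1 = 2 + (2 * r + 1) by ring, pow_add] at h1
      exact (Nat.eq_of_mul_eq_mul_left (Nat.pow_pos hp.out.pos) h1).symm
    haveI : Nontrivial (fixAut (φ x)) :=
      Finite.one_lt_card_iff_nontrivial.1 (fix_ne_bot h hexp hcop hz hx)
    exact card_lower hp2 r P.C (fixAut (φ x))
      (restrictFix φ x P.C fun c hc => hPx ▸ (P.mem_C.1 hc).1) (P.isES h)
      (fun c => Subtype.ext (hexp c)) (fun hd => hcop (hd.trans (card_subgroup_dvd_card _)))
      (fun c hc hc1 w hw => Subtype.ext (hz c (P.center_C h ▸ mem_map_of_mem P.C.subtype hc)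
        (fun e => hc1 (Subtype.ext e)) w (congrArg Subtype.val hw))) hC
  have hU : M ^ p ≤ Nat.card U := fix_pow_le h hexp hcop hz hx
  -- double counting
  have hcount : (Nat.card U - 1) * (p - 1) ≤ Nat.card E * (M - 1) := by
    let R : E → Finset U := fun e => Finset.univ.filter fun w => w ≠ 1 ∧ e ≠ 1 ∧ φ e w = w
    let L : U → Finset E := fun w => Finset.univ.filter fun e => w ≠ 1 ∧ e ≠ 1 ∧ φ e w = w
    have hswap : ∑ w : U, (L w).card = ∑ e : E, (R e).card := by
      simp only [L, R, Finset.card_filter]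
      exact Finset.sum_comm
    have hlow : ∀ w : U, w ≠ 1 → p - 1 ≤ (L w).card := by
      intro w hw
      obtain ⟨e, he, hew⟩ := hno w
      have hpow : ∀ k : ℕ, φ (e ^ k) w = w := fun k => by
        induction k with
        | zero => rw [pow_zero, map_one, MulAut.one_apply]
        | succ k ih => rw [pow_succ, map_mul, MulAut.mul_apply, hew, ih]
      have heo : orderOf e = p := orderOf_eq_prime (hexp e) he
      calc p - 1 = (Finset.range (p - 1)).card := (Finset.card_range _).symm
        _ ≤ (L w).card := by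
          refine Finset.card_le_card_of_injOn (fun k => e ^ (k + 1)) (fun k hk => ?_) (fun a ha b hb hab => ?_)
          · rw [Finset.mem_coe, Finset.mem_range] at hk
            simp only [L, Finset.mem_coe, Finset.mem_filter, Finset.mem_univ, true_and]
            refine ⟨hw, fun h1 => ?_, hpow _⟩
            have := Nat.le_of_dvd (Nat.succ_pos k) (heo ▸ orderOf_dvd_of_pow_eq_one h1)
            omega
          · rw [Finset.mem_coe, Finset.mem_range] at ha hb
            have := pow_injOn_Iio_orderOf (x := e) (by rw [Set.mem_Iio, heo]; omega)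
              (by rw [Set.mem_Iio, heo]; omega) hab
            omega
    have hhigh : ∀ e : E, (R e).card ≤ M - 1 := by
      intro e
      by_cases he : e = 1
      · simp [R, he]
      by_cases hec : e ∈ center E
      · have : R e = ∅ := by
          rw [Finset.filter_eq_empty_iff]
          rintro w - ⟨hw, -, hfix⟩
          exact hw (hz e hec he w hfix)
        simp [this]
      · have h1 : R e ⊆ (Finset.univ.filter fun w => φ e w = w).erase 1 := fun w hw => by
          simp only [R, Finset.mem_filter, Finset.mem_univ, true_and] at hw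
          exact Finset.mem_erase.2 ⟨hw.1, Finset.mem_filter.2 ⟨Finset.mem_univ _, hw.2.2⟩⟩
        have h2 : (Finset.univ.filter fun w => φ e w = w).card = Nat.card (fixAut (φ e)) := by
          rw [Nat.card_eq_fintype_card, ← Fintype.card_subtype]
          exact Fintype.card_congr (Equiv.refl _)
        refine (Finset.card_le_card h1).trans ?_
        rw [Finset.card_erase_of_mem (by simp), h2]
        exact Nat.sub_le_sub_right (hmax ⟨e, hec⟩) 1
    calc (Nat.card U - 1) * (p - 1) = ∑ _w ∈ (Finset.univ : Finset U).erase 1, (p - 1) := by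
          rw [Finset.sum_const, Finset.card_erase_of_mem (Finset.mem_univ _), Finset.card_univ,
            Nat.card_eq_fintype_card, smul_eq_mul]
      _ ≤ ∑ w ∈ (Finset.univ : Finset U).erase 1, (L w).card :=
          Finset.sum_le_sum fun w hw => hlow w (Finset.ne_of_mem_erase hw)
      _ ≤ ∑ w : U, (L w).card :=
          Finset.sum_le_sum_of_subset_of_nonneg (Finset.subset_univ _) fun _ _ _ => Nat.zero_le _
      _ = ∑ e : E, (R e).card := hswap
      _ ≤ ∑ _e : E, (M - 1) := Finset.sum_le_sum fun e _ => hhigh e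
      _ = _ := by rw [Finset.sum_const, Finset.card_univ, Nat.card_eq_fintype_card, smul_eq_mul]
  -- numerics
  have hp3 : 3 ≤ p := by have := hp.out.two_le; omega
  have hM2 : 2 ≤ M := le_trans (by
    have : 1 ≤ p ^ r := Nat.one_le_pow _ _ hp.out.pos
    calc 2 ≤ (p + 1) ^ 1 := by rw [pow_one]; omega
      _ ≤ _ := Nat.pow_le_pow_right (by omega) this) hMlow
  have hA : (p + 1) ^ (2 * (r + 1)) ≤ M ^ (p - 1) := by
    calc (p + 1) ^ (2 * (r + 1)) ≤ (p + 1) ^ (p ^ r * (p - 1)) :=
          Nat.pow_le_pow_right (by omega) (two_mul_le_pow_mul hp3 r)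
      _ = ((p + 1) ^ (p ^ r)) ^ (p - 1) := pow_mul _ _ _
      _ ≤ _ := Nat.pow_le_pow_left hMlow _
  have hB : (M - 1) * M ^ (p - 1) ≤ M ^ p - 1 := by
    obtain ⟨q, rfl⟩ : ∃ q, p = q + 1 := ⟨p - 1, by omega⟩
    rw [Nat.add_sub_cancel, Nat.sub_mul, one_mul, pow_succ, mul_comm M (M ^ q)]
    have : 1 ≤ M ^ q := Nat.one_le_pow _ _ (by omega)
    omega
  have hC : (M - 1) * M ^ (p - 1) * (p - 1) ≤ (M - 1) * Nat.card E := by
    calc (M - 1) * M ^ (p - 1) * (p - 1) ≤ (M ^ p - 1) * (p - 1) := Nat.mul_le_mul_right _ hB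
      _ ≤ (Nat.card U - 1) * (p - 1) := Nat.mul_le_mul_right _ (Nat.sub_le_sub_right hU 1)
      _ ≤ _ := hcount.trans (le_of_eq (mul_comm _ _))
  rw [mul_assoc] at hC
  have hD := Nat.le_of_mul_le_mul_left hC (by omega)
  rw [hr'] at hD
  have hE : p ^ (2 * (r + 1) + 1) < (p + 1) ^ (2 * (r + 1)) * (p - 1) := by
    have h2 : p ^ 3 < (p + 1) ^ 2 * (p - 1) := by
      obtain ⟨q, rfl⟩ : ∃ q, p = q + 1 := ⟨p - 1, by omega⟩
      rw [Nat.add_sub_cancel]; nlinarith
    have h4 : p ^ (2 * r) ≤ (p + 1) ^ (2 * r) := Nat.pow_le_pow_left (by omega) _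
    calc p ^ (2 * (r + 1) + 1) = p ^ (2 * r) * p ^ 3 := by rw [← pow_add]; congr 1
      _ < p ^ (2 * r) * ((p + 1) ^ 2 * (p - 1)) :=
          Nat.mul_lt_mul_of_pos_left h2 (Nat.pow_pos hp.out.pos)
      _ ≤ (p + 1) ^ (2 * r) * ((p + 1) ^ 2 * (p - 1)) := Nat.mul_le_mul_right _ h4
      _ = _ := by rw [mul_add, pow_add, mul_assoc]
  have hF := Nat.mul_le_mul_right (p - 1) hA
  omega

end Cfsg.Agent.ClassSubnormal
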