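import Cfsg.Agent.Lib.PGroup.Extraspecial
import Cfsg.Agent.Lib.PGroup.UniqueOrderP
import Cfsg.Agent.Lib.PGroup.NormalAbelian
import Cfsg.Agent.Lib.PGroup.Omega

/-!
# The elements of order `p` in a normal `p`-subgroup without noncyclic normal elementary subgroups

`exists_omega_es`: for odd `p` they form, with `1`, a subgroup with centre of order `p` containing
all its commutators.
-/

open Subgroup
open scoped commutatorElement

namespace Cfsg.Agent.ClassSubnormal

set_option linter.unusedSectionVars false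

variable {H : Type*} [Group H] [Finite H] {p : ℕ} [hp : Fact p.Prime]

theorem exists_omega_es (hp2 : p ≠ 2) {R : Subgroup H} [R.Normal] (hR : IsPGroup p R) (hR0 : R ≠ ⊥)
    (hA : ∀ A : Subgroup H, A.Normal → A ≤ R → Cfsg.IsElementaryAbelian p A → Nat.card A ≤ p) :
    ∃ E : Subgroup R, PGroup.IsES p E ∧ (∀ x ∈ E, x ^ p = 1) ∧ (∀ x : R, x ^ p = 1 → x ∈ E) ∧
      ∀ z : E, z ∈ center E → (z : R) ∈ center R := by
  haveI : Nontrivial R := (nontrivial_iff_ne_bot R).2 hR0
  let s : Set R := {x | x ^ p = 1 ∧ ∀ r : R, ⁅r, x⁆ ∈ center R}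
  set E := closure s with hE
  -- normality
  have hinv : ∀ (φ : R ≃* R) (x : R), x ∈ E → φ x ∈ E := by
    intro φ x hx
    have h1 : E.map φ.toMonoidHom ≤ E := by
      rw [hE, MonoidHom.map_closure]
      refine closure_mono ?_
      rintro _ ⟨a, ⟨ha, hac⟩, rfl⟩
      refine ⟨by simp [← map_pow, ha], fun r => ?_⟩
      obtain ⟨r, rfl⟩ := φ.surjective r
      show ⁅φ r, φ a⁆ ∈ center R
      rw [← map_commutatorElement, mem_center_iff]
      intro g
      obtain ⟨g, rfl⟩ := φ.surjective g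
      rw [← map_mul, ← map_mul, mem_center_iff.1 (hac r) g]
    exact h1 ⟨x, hx, rfl⟩
  haveI hEn : E.Normal := ⟨fun x hx g => hinv (MulAut.conj g) x hx⟩
  have hEH : ∀ A : Subgroup R, (∀ (l : H) (a : R), a ∈ A → MulAut.conjNormal l a ∈ A) →
      (A.map R.subtype).Normal := by
    intro A h
    refine ⟨?_⟩
    rintro _ ⟨a, ha, rfl⟩ l
    exact ⟨MulAut.conjNormal l a, h l a ha, by simp⟩
  -- class two and exponent `p`
  have hZ2 : ∀ x ∈ E, ∀ r : R, ⁅r, x⁆ ∈ center R := by
    intro x hx r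
    have key : E ≤ (centralizer ({((r : R) : R ⧸ center R)} : Set (R ⧸ center R))).comap
        (QuotientGroup.mk' (center R)) := by
      rw [hE, closure_le]
      intro a ha
      rw [SetLike.mem_coe, mem_comap, mem_centralizer_singleton_iff, eq_comm,
        ← commutatorElement_eq_one_iff_mul_comm]
      exact (map_commutatorElement (QuotientGroup.mk' (center R)) r a).symm.trans
        ((QuotientGroup.eq_one_iff _).2 (ha.2 r))
    have h1 := mem_centralizer_singleton_iff.1 (mem_comap.1 (key hx))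
    rw [eq_comm, ← commutatorElement_eq_one_iff_mul_comm] at h1
    exact (QuotientGroup.eq_one_iff _).1 ((map_commutatorElement (QuotientGroup.mk' (center R)) r x).trans h1)
  have hcE : ∀ a b : E, ⁅a, b⁆ ∈ center E := fun a b =>
    mem_center_iff.2 fun g => Subtype.ext (mem_center_iff.1 (hZ2 _ b.2 (a : R)) (g : R))
  have hgen : closure ((fun x : E => (x : R)) ⁻¹' s) = ⊤ := closure_preimage_eq_top s
  have hexp : ∀ x ∈ E, x ^ p = 1 := by
    intro x hx
    have h1 : (⟨x, hx⟩ : E) ∈ closure {a : E | a ^ p = 1} := by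
      refine closure_mono ?_ (hgen.ge (mem_top _))
      exact fun a ha => Subtype.ext ha.1
    exact congrArg Subtype.val (PGroup.exponent_omega_classTwo hp.out hp2 hcE h1)
  -- elements of order `p` in the centre
  have hZE : ∀ x ∈ center R, x ^ p = 1 → x ∈ E := fun x hx hxp =>
    subset_closure ⟨hxp, fun r => by
      rw [commutatorElement_eq_one_iff_mul_comm.2 (mem_center_iff.1 hx r)]; exact one_mem _⟩
  set Z := (center E).map E.subtype with hZ
  have hZel : Cfsg.IsElementaryAbelian p Z := by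
    refine ⟨⟨⟨?_⟩⟩, ?_⟩
    · rintro ⟨_, a, ha, rfl⟩ ⟨_, b, hb, rfl⟩
      exact Subtype.ext (congrArg E.subtype (mem_center_iff.1 hb a))
    · rintro _ ⟨a, ha, rfl⟩; exact hexp _ a.2
  haveI : Nontrivial (center R) := IsPGroup.center_nontrivial hR
  obtain ⟨z₀, hz₀⟩ : ∃ z : R, z ∈ center R ∧ orderOf z = p := by
    haveI := Fintype.ofFinite (center R)
    obtain ⟨j, hj⟩ := IsPGroup.iff_card.1 (hR.to_subgroup (center R))
    have hj0 : j ≠ 0 := by
      rintro rfl
      exact (Finite.one_lt_card (α := center R)).ne' (by simpa using hj)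
    obtain ⟨a, ha⟩ := exists_prime_orderOf_dvd_card' p (hj ▸ dvd_pow_self p hj0)
    exact ⟨a, a.2, by rw [Subgroup.orderOf_coe, ha]⟩
  have hz₀E : z₀ ∈ E := hZE z₀ hz₀.1 (hz₀.2 ▸ pow_orderOf_eq_one z₀)
  have hz₀Z : z₀ ∈ Z := ⟨⟨z₀, hz₀E⟩, mem_center_iff.2 fun g => Subtype.ext (mem_center_iff.1 hz₀.1 g), rfl⟩
  have hZle : Nat.card Z ≤ p := by
    rw [Nat.card_congr (Subgroup.equivMapOfInjective Z R.subtype R.subtype_injective).toEquiv]
    refine hA _ (hEH Z ?_) (map_subtype_le _) ⟨⟨⟨?_⟩⟩, ?_⟩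
    · rintro l _ ⟨a, ha, rfl⟩
      refine ⟨⟨MulAut.conjNormal l (a : R), hinv _ _ a.2⟩, mem_center_iff.2 fun g => Subtype.ext ?_, rfl⟩
      obtain ⟨g', hg'⟩ := (MulAut.conjNormal l : R ≃* R).surjective (g : R)
      have hg'E : g' ∈ E := by
        have := hinv (MulAut.conjNormal l : R ≃* R).symm _ g.2
        rwa [← hg', MulEquiv.symm_apply_apply] at this
      show (g : R) * MulAut.conjNormal l (a : R) = MulAut.conjNormal l (a : R) * (g : R)
      rw [← hg', ← map_mul, ← map_mul, show g' * (a : R) = a * g' from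
        congrArg E.subtype (mem_center_iff.1 ha ⟨g', hg'E⟩)]
    · rintro ⟨_, a, ha, rfl⟩ ⟨_, b, hb, rfl⟩
      exact Subtype.ext (congrArg R.subtype (congrArg Subtype.val
        (hZel.1.is_comm.comm ⟨a, ha⟩ ⟨b, hb⟩)))
    · rintro _ ⟨a, ha, rfl⟩
      show ((a : R) : H) ^ p = 1
      rw [← Subgroup.coe_pow, hZel.2 a ha, Subgroup.coe_one]
  have hZeq : zpowers z₀ = Z := eq_of_le_of_card_ge (zpowers_le.2 hz₀Z) (by
    rw [Nat.card_zpowers, hz₀.2]; exact hZle)
  have hZc : Z ≤ center R := hZeq ▸ zpowers_le.2 hz₀.1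
  have hES : PGroup.IsES p E := by
    refine ⟨?_, hcE, fun x => ?_⟩
    · rw [← card_map_of_injective E.subtype_injective, ← hZ, ← hZeq, Nat.card_zpowers, hz₀.2]
    · rw [show x ^ p = 1 from Subtype.ext (hexp x x.2)]; exact one_mem _
  refine ⟨E, hES, hexp, fun x hxp => ?_, fun z hz => hZc ⟨z, hz, rfl⟩⟩
  -- the centralizer of `E` is cyclic
  have hcyc : IsCyclic (centralizer (E : Set R)) := by
    by_contra hnc
    obtain ⟨A, hAle, hAn, hAel, hAc⟩ := PGroup.exists_normal_elementary_sq hp2 hR hnc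
    haveI := hAn
    have hAE : A ≤ E := fun a ha => by
      refine subset_closure ⟨hAel.2 a ha, fun r => ?_⟩
      by_cases hAz : A ≤ center R
      · rw [commutatorElement_eq_one_iff_mul_comm.2 (mem_center_iff.1 (hAz ha) r)]; exact one_mem _
      · have hne : A ⊓ center R ≠ ⊥ := PGroup.inf_center_ne_bot hR fun e => by
          rw [e, Subgroup.card_bot] at hAc
          exact (Nat.one_lt_pow (by norm_num) hp.out.one_lt).ne hAc
        have hlt : A ⊓ center R < A := lt_of_le_of_ne inf_le_left fun e => hAz (inf_eq_left.1 e)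
        have hge : p ≤ Nat.card ↥(A ⊓ center R) := by
          obtain ⟨j, hj⟩ := IsPGroup.iff_card.1 (hR.to_subgroup (A ⊓ center R))
          rw [hj]
          refine Nat.le_self_pow ?_ p
          rintro rfl
          exact hne (Subgroup.card_eq_one.1 (by simpa using hj))
        exact (PGroup.commutator_mem_of_card hR hlt (by rw [hAc, sq]; exact Nat.mul_le_mul_left p hge)
          ha r).2
    have hAZ : A ≤ Z := fun a ha => ⟨⟨a, hAE ha⟩, mem_center_iff.2 fun g => Subtype.ext
      (mem_centralizer_iff.1 (hAle ha) g g.2), rfl⟩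
    have h1 := card_le_of_le hAZ
    rw [hAc] at h1
    have h2 := h1.trans hZle
    have := hp.out.two_le
    nlinarith
  -- `x` induces an inner automorphism on `E`
  obtain ⟨a, ha⟩ := PGroup.IsES.exists_inner (Nat.card E) E hES le_rfl
    (fun e => ⟨⁅x, (e : R)⁆, by
      rw [commutatorElement_def]
      exact E.mul_mem (hEn.conj_mem _ e.2 x) (E.inv_mem e.2)⟩)
    (fun e f => Subtype.ext (by
      show ⁅x, (e : R) * f⁆ = ⁅x, (e : R)⁆ * ⁅x, (f : R)⁆
      exact PGroup.commutator_mul_right (mem_center_iff.1 (hZ2 _ f.2 x) e)))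
    (fun e => mem_center_iff.2 fun g => Subtype.ext (mem_center_iff.1 (hZ2 _ e.2 x) (g : R)))
    (fun e he => Subtype.ext (commutatorElement_eq_one_iff_mul_comm.2
      (mem_center_iff.1 (hZc ⟨e, he, rfl⟩) x)))
  have ha' : ∀ e ∈ E, ⁅(a : R), e⁆ = ⁅x, e⁆ := fun e he => congrArg Subtype.val (ha ⟨e, he⟩)
  set t := (a : R)⁻¹ * x with ht
  have htC : t ∈ centralizer (E : Set R) := by
    rw [mem_centralizer_iff]
    intro e he
    have h1 : (a : R) * e * (a : R)⁻¹ = x * e * x⁻¹ := by
      have h2 := ha' e he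
      rw [commutatorElement_def, commutatorElement_def] at h2
      exact mul_right_cancel h2
    calc e * ((a : R)⁻¹ * x) = (a : R)⁻¹ * ((a : R) * e * (a : R)⁻¹) * x := by group
      _ = _ := by rw [h1, ht]; group
  have hc : Commute (a : R) t := mem_centralizer_iff.1 htC a a.2
  have hxe : x = (a : R) * t := by rw [ht, mul_inv_cancel_left]
  have htp : t ^ p = 1 := by
    rw [hxe, hc.mul_pow, hexp _ a.2, one_mul] at hxp
    exact hxp
  have hzC : z₀ ∈ centralizer (E : Set R) :=
    mem_centralizer_iff.2 fun e _ => mem_center_iff.1 hz₀.1 e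
  have hT : t ∈ Z := by
    haveI := hcyc
    haveI := Fintype.ofFinite (centralizer (E : Set R))
    classical
    have hcard : Nat.card {y : centralizer (E : Set R) // y ^ p = 1} ≤ p := by
      rw [Nat.card_eq_fintype_card, Fintype.card_subtype]
      exact IsCyclic.card_pow_eq_one_le hp.out.pos
    let f : zpowers (⟨z₀, hzC⟩ : centralizer (E : Set R)) → {y : centralizer (E : Set R) // y ^ p = 1} :=
      fun y => ⟨y.1, by
        obtain ⟨i, hi⟩ := mem_zpowers_iff.1 y.2
        rw [← hi, ← zpow_natCast, ← zpow_mul, mul_comm, zpow_mul, zpow_natCast,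
          show (⟨z₀, hzC⟩ : centralizer (E : Set R)) ^ p = 1 from
            Subtype.ext (hz₀.2 ▸ pow_orderOf_eq_one z₀), one_zpow]⟩
    have hinj : Function.Injective f := fun y y' e => Subtype.ext (congrArg (fun q => q.1) e)
    have hbij : Function.Bijective f := (Nat.bijective_iff_injective_and_card f).2 ⟨hinj,
      le_antisymm (Nat.card_le_card_of_injective f hinj) (by
        rw [Nat.card_zpowers, Subgroup.orderOf_mk, hz₀.2]; exact hcard)⟩
    obtain ⟨y, hy⟩ := hbij.2 ⟨⟨t, htC⟩, Subtype.ext htp⟩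
    obtain ⟨i, hi⟩ := mem_zpowers_iff.1 y.2
    have : z₀ ^ i = t := congrArg Subtype.val (hi.trans (congrArg (fun q => q.1) hy))
    exact this ▸ zpow_mem hz₀Z i
  rw [hxe]
  exact E.mul_mem a.2 (map_subtype_le _ hT)

end Cfsg.Agent.ClassSubnormal
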