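import Cfsg.Agent.Lib.ClassSubnormal.RegularSet
import Cfsg.Agent.Lib.ClassSubnormal.Symplectic
import Cfsg.Agent.Lib.ClassSubnormal.Count
import Cfsg.Agent.Lib.PLocal.Thompson

/-!
# A vector moved by all conjugates of an element of a normal `p`-subgroup

`exists_moved_module`: irreducible coprime action, `p` odd.
-/

open Subgroup
open scoped commutatorElement

namespace Cfsg.Agent.ClassSubnormal

set_option linter.unusedSectionVars false

variable {p : ℕ} [hp : Fact p.Prime] {V : Type*} [CommGroup V] [Finite V]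

/-- The orbit of a subgroup. -/
def orbSet (Γ : Subgroup (MulAut V)) (U : Subgroup V) : Set (Subgroup V) :=
  {X | ∃ γ ∈ Γ, U.map γ.toMonoidHom = X}

theorem map_map_aut (γ δ : MulAut V) (U : Subgroup V) :
    (U.map δ.toMonoidHom).map γ.toMonoidHom = U.map (γ * δ).toMonoidHom := by
  rw [Subgroup.map_map]; rfl

theorem mem_map_iff_of_eq {W : Type*} [Group W] {γ : MulAut W} {U : Subgroup W}
    (h : U.map γ.toMonoidHom = U) {u : W} : γ u ∈ U ↔ u ∈ U := by
  constructor
  · intro hu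
    rw [← h] at hu
    obtain ⟨a, ha, hau⟩ := hu
    rwa [← γ.injective hau]
  · exact fun hu => h ▸ mem_map_of_mem γ.toMonoidHom hu

/-- The automorphisms stabilising `U`. -/
def stabAut {W : Type*} [Group W] (U : Subgroup W) : Subgroup (MulAut W) where
  carrier := {γ | U.map γ.toMonoidHom = U}
  one_mem' := Subgroup.map_id U
  mul_mem' := fun {a b} (ha : U.map a.toMonoidHom = U) (hb : U.map b.toMonoidHom = U) => by
    show U.map (a * b).toMonoidHom = U
    conv_rhs => rw [← ha, ← hb]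
    rw [Subgroup.map_map]; rfl
  inv_mem' := fun {a} (ha : U.map a.toMonoidHom = U) => by
    show U.map a⁻¹.toMonoidHom = U
    conv_lhs => rw [← ha]
    rw [Subgroup.map_map]
    convert Subgroup.map_id U
    ext x
    exact a.symm_apply_apply x

/-- Restriction to a stabilised subgroup. -/
def stabHom {W : Type*} [Group W] (U : Subgroup W) : stabAut U →* MulAut U where
  toFun γ :=
    { toFun := fun u => ⟨(γ : MulAut W) u, (mem_map_iff_of_eq γ.2).2 u.2⟩
      invFun := fun u => ⟨((γ⁻¹ : stabAut U) : MulAut W) u, (mem_map_iff_of_eq (γ⁻¹).2).2 u.2⟩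
      left_inv := fun u => Subtype.ext ((γ : MulAut W).symm_apply_apply u)
      right_inv := fun u => Subtype.ext ((γ : MulAut W).apply_symm_apply u)
      map_mul' := fun a b => Subtype.ext (map_mul (γ : MulAut W) _ _) }
  map_one' := rfl
  map_mul' _ _ := rfl

/-- The common fixed points of a group of automorphisms. -/
def fixSub {W : Type*} [Group W] (B : Subgroup (MulAut W)) : Subgroup W where
  carrier := {w | ∀ b ∈ B, b w = w}
  one_mem' := fun b _ => map_one b
  mul_mem' := fun {x y} hx hy b hb => by rw [map_mul, hx b hb, hy b hb]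
  inv_mem' := fun {x} hx b hb => by rw [map_inv, hx b hb]

theorem prod_eq_one_of_indep {O : Set (Subgroup V)} (hO : sSupIndep O) {T : Finset (Subgroup V)}
    (hT : ↑T ⊆ O) {f : Subgroup V → V} (hf : ∀ X ∈ T, f X ∈ X) (h : ∏ X ∈ T, f X = 1) :
    ∀ X ∈ T, f X = 1 := by
  classical
  intro X hX
  rw [← Finset.mul_prod_erase T f hX] at h
  refine mem_bot.1 ((hO (hT hX)).le_bot ⟨hf X hX, ?_⟩)
  rw [eq_inv_of_mul_eq_one_left h]
  refine (sSup (O \ {X})).inv_mem (Subgroup.prod_mem _ fun Y hY => ?_)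
  exact le_sSup (show Y ∈ O \ {X} from ⟨hT (Finset.mem_of_mem_erase hY), Finset.ne_of_mem_erase hY⟩)
    (hf Y (Finset.mem_of_mem_erase hY))

/-- A system of imprimitivity inside a block gives a system of imprimitivity. -/
theorem indep_refine {Γ : Subgroup (MulAut V)} {U : Subgroup V} (hU : sSupIndep (orbSet Γ U))
    {𝒰 : Set (Subgroup V)} (hle : ∀ Y ∈ 𝒰, Y ≤ U) (hind : sSupIndep 𝒰)
    (hinv : ∀ γ ∈ Γ, U.map γ.toMonoidHom = U → ∀ Y ∈ 𝒰, Y.map γ.toMonoidHom ∈ 𝒰)
    {U₀ : Subgroup V} (hU₀ : U₀ ∈ 𝒰) : sSupIndep (orbSet Γ U₀) := by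
  rintro _ ⟨γ, hγ, rfl⟩
  set A := (sSup (𝒰 \ {U₀})).map γ.toMonoidHom with hA
  set B := sSup (orbSet Γ U \ {U.map γ.toMonoidHom}) with hB
  have hsup : sSup (orbSet Γ U₀ \ {U₀.map γ.toMonoidHom}) ≤ A ⊔ B := by
    refine sSup_le ?_
    rintro _ ⟨⟨δ, hδ, rfl⟩, hne⟩
    by_cases he : U.map δ.toMonoidHom = U.map γ.toMonoidHom
    · refine le_sup_of_le_left ?_
      have hst : U.map (γ⁻¹ * δ).toMonoidHom = U := by
        rw [← map_map_aut, he, map_map_aut, inv_mul_cancel]; exact Subgroup.map_id U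
      have h1 := hinv _ (mul_mem (inv_mem hγ) hδ) hst U₀ hU₀
      have h2 : U₀.map δ.toMonoidHom = (U₀.map (γ⁻¹ * δ).toMonoidHom).map γ.toMonoidHom := by
        rw [map_map_aut, mul_inv_cancel_left]
      rw [h2]
      refine map_mono (le_sSup ⟨h1, fun hh => hne ?_⟩)
      rw [Set.mem_singleton_iff] at hh ⊢
      rw [h2, hh]
    · exact le_sup_of_le_right ((map_mono (hle U₀ hU₀)).trans (le_sSup ⟨⟨δ, hδ, rfl⟩, he⟩))
  refine Disjoint.mono_right hsup (disjoint_iff.2 (le_bot_iff.1 fun x hx => ?_))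
  have hAU : A ≤ U.map γ.toMonoidHom := map_mono (sSup_le fun Y hY => hle Y hY.1)
  have h1 : x ∈ (A ⊔ B) ⊓ U.map γ.toMonoidHom := ⟨hx.2, map_mono (hle U₀ hU₀) hx.1⟩
  rw [sup_inf_assoc_of_le B hAU, inf_comm,
    disjoint_iff.1 (hU (a := U.map γ.toMonoidHom) ⟨γ, hγ, rfl⟩), sup_bot_eq] at h1
  have h2 : x ∈ U₀.map γ.toMonoidHom ⊓ A := ⟨hx.1, h1⟩
  rw [hA, ← Subgroup.map_inf _ _ _ γ.injective, disjoint_iff.1 (hind hU₀), Subgroup.map_bot] at h2
  exact h2

/-- The theorem on primitive blocks. -/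
theorem exists_moved_block (hp2 : p ≠ 2) {Γ Pi : Subgroup (MulAut V)}
    (hn : ∀ γ ∈ Γ, ∀ π ∈ Pi, γ * π * γ⁻¹ ∈ Pi) (hPi : IsPGroup p Pi) (hcop : ¬ p ∣ Nat.card V)
    {U : Subgroup V} (hU0 : U ≠ ⊥) (hU : sSupIndep (orbSet Γ U))
    (hmin : ∀ U₀ : Subgroup V, U₀ ≠ ⊥ → sSupIndep (orbSet Γ U₀) → Nat.card U ≤ Nat.card U₀) :
    ∃ w ∈ U, ∀ π ∈ Pi, π ∈ Γ → U.map π.toMonoidHom = U → π ^ p = 1 →
      (∃ u ∈ U, π u ≠ u) → π w ≠ w := by
  classical
  haveI : Nontrivial U := (nontrivial_iff_ne_bot U).2 hU0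
  have hcopU : ¬ p ∣ Nat.card U := fun hd => hcop (hd.trans (card_subgroup_dvd_card U))
  set St := Γ ⊓ stabAut U with hSt
  set ρ : St →* MulAut U := (stabHom U).comp (Subgroup.inclusion inf_le_right) with hρ
  set f := ρ.rangeRestrict with hf
  set R : Subgroup ρ.range := (Pi.subgroupOf St).map f with hR
  haveI : (Pi.subgroupOf St).Normal := ⟨fun a ha g => by
    rw [mem_subgroupOf] at ha ⊢
    exact hn _ g.2.1 _ ha⟩
  haveI hRn : R.Normal := Subgroup.Normal.map inferInstance f ρ.rangeRestrict_surjective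
  have hRp : IsPGroup p R := by
    refine IsPGroup.map ?_ f
    exact hPi.of_injective (((Subgroup.subtype St).comp (Pi.subgroupOf St).subtype).codRestrict Pi
      fun a => mem_subgroupOf.1 a.2) fun a b e => Subtype.ext (Subtype.ext (congrArg (fun q : Pi => (q : MulAut V)) e))
  -- fixed points in `U` of subgroups of the image
  let CU : Subgroup ρ.range → Subgroup U := fun A => fixSub (A.map ρ.range.subtype)
  have hCU : ∀ {A : Subgroup ρ.range} {w : U}, w ∈ CU A ↔ ∀ a ∈ A, (a : MulAut U) w = w :=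
    fun {A w} => ⟨fun h a ha => h _ ⟨a, ha, rfl⟩, fun h => by rintro _ ⟨a, ha, rfl⟩; exact h a ha⟩
  have hfU : ∀ (γ : MulAut V) (h1 : γ ∈ Γ) (h2 : U.map γ.toMonoidHom = U) (u : U),
      (((f ⟨γ, h1, h2⟩ : ρ.range) : MulAut U) u : V) = γ u := fun _ _ _ _ => rfl
  have hCUimg : ∀ (A : Subgroup ρ.range) (γ : MulAut V) (h1 : γ ∈ Γ) (h2 : U.map γ.toMonoidHom = U),
      ((CU A).map U.subtype).map γ.toMonoidHom =
        (CU (A.map (MulAut.conj (f ⟨γ, h1, h2⟩)).toMonoidHom)).map U.subtype := by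
    intro A γ h1 h2
    set l := f ⟨γ, h1, h2⟩ with hl
    ext x
    constructor
    · rintro ⟨_, ⟨w, hw, rfl⟩, rfl⟩
      refine ⟨(l : MulAut U) w, hCU.2 ?_, hfU γ h1 h2 w⟩
      rintro _ ⟨a, ha, rfl⟩
      show ((l * a * l⁻¹ : ρ.range) : MulAut U) ((l : MulAut U) w) = _
      rw [← MulAut.mul_apply, ← Subgroup.coe_mul, inv_mul_cancel_right, Subgroup.coe_mul,
        MulAut.mul_apply, hCU.1 hw a ha]
    · rintro ⟨w, hw, rfl⟩
      refine ⟨((((l⁻¹ : ρ.range) : MulAut U) w : U) : V), ⟨((l⁻¹ : ρ.range) : MulAut U) w, hCU.2 fun a ha => ?_, rfl⟩, ?_⟩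
      · have := hCU.1 hw (l * a * l⁻¹) ⟨a, ha, rfl⟩
        rw [Subgroup.coe_mul, Subgroup.coe_mul, MulAut.mul_apply, MulAut.mul_apply] at this
        rw [← MulAut.mul_apply]
        show ((a : MulAut U) * ((l⁻¹ : ρ.range) : MulAut U)) w = _
        rw [MulAut.mul_apply]
        apply (l : MulAut U).injective
        rw [this, ← MulAut.mul_apply, ← Subgroup.coe_mul, mul_inv_cancel, Subgroup.coe_one, MulAut.one_apply]
      · refine (hfU γ h1 h2 _).symm.trans (congrArg Subtype.val ?_)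
        rw [← hl, ← MulAut.mul_apply, ← Subgroup.coe_mul, mul_inv_cancel, Subgroup.coe_one, MulAut.one_apply]
  -- a sub-system must be trivial
  have hsub : ∀ 𝒰 : Set (Subgroup V), (∀ Y ∈ 𝒰, Y ≤ U) → sSupIndep 𝒰 →
      (∀ γ ∈ Γ, U.map γ.toMonoidHom = U → ∀ Y ∈ 𝒰, Y.map γ.toMonoidHom ∈ 𝒰) →
      ∀ Y ∈ 𝒰, Y ≠ ⊥ → Y = U := by
    intro 𝒰 hle hind hinv Y hY hY0
    exact eq_of_le_of_card_ge (hle Y hY) (hmin Y hY0 (indep_refine hU hle hind hinv hY))
  have hfaith : ∀ A : Subgroup ρ.range, CU A = ⊤ → A = ⊥ := by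
    intro A h
    refine le_bot_iff.1 fun a ha => mem_bot.2 (Subtype.ext (MulEquiv.ext fun w => ?_))
    exact hCU.1 (h ▸ mem_top w) a ha
  have hfix : ∀ A : Subgroup ρ.range, A.Normal → A ≠ ⊥ → CU A = ⊥ := by
    intro A hA hA0
    by_contra hne
    have h0 : (CU A).map U.subtype = U := by
      refine hsub {(CU A).map U.subtype} (fun Y hY => ?_) (sSupIndep_singleton _) ?_ _ rfl ?_
      · rw [Set.mem_singleton_iff.1 hY]; exact map_subtype_le _
      · intro γ h1 h2 Y hY
        rw [Set.mem_singleton_iff.1 hY, hCUimg A γ h1 h2, Set.mem_singleton_iff]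
        congr 2
        exact PLocal.mem_normalizer_iff_map_eq.1 (by rw [normalizer_eq_top]; exact mem_top _)
      · exact fun e => hne ((map_eq_bot_iff_of_injective _ U.subtype_injective).1 e)
    refine hA0 (hfaith A (map_injective U.subtype_injective ?_))
    rw [h0, ← MonoidHom.range_eq_map, range_subtype]
  -- no noncyclic normal elementary abelian subgroup
  have hA : ∀ A : Subgroup ρ.range, A.Normal → A ≤ R → Cfsg.IsElementaryAbelian p A → Nat.card A ≤ p := by
    intro A hAn hAR hAel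
    by_contra hgt
    push Not at hgt
    have hA0 : A ≠ ⊥ := fun e => by rw [e, Subgroup.card_bot] at hgt; have := hp.out.pos; omega
    have hAp : IsPGroup p A := hRp.to_le hAR
    have hcomm : ∀ a ∈ A, ∀ b ∈ A, Commute a b := fun a ha b hb =>
      congrArg Subtype.val (hAel.1.is_comm.comm ⟨a, ha⟩ ⟨b, hb⟩)
    obtain ⟨B, hBA, hBmax⟩ : ∃ B ≤ A, CU B ≠ ⊥ ∧
        ∀ B' ≤ A, CU B' ≠ ⊥ → B ≤ B' → B' = B := by
      let S : Set (Subgroup ρ.range) := {B | B ≤ A ∧ CU B ≠ ⊥}
      have hne : S.Nonempty := ⟨⊥, bot_le, fun e => by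
        obtain ⟨w, hw⟩ := exists_ne (1 : U)
        exact hw (mem_bot.1 (e ▸ hCU.2 fun a ha => by rw [mem_bot.1 ha]; rfl))⟩
      obtain ⟨B, hB⟩ := (Set.toFinite S).exists_maximal hne
      exact ⟨B, hB.prop.1, hB.prop.2, fun B' h1 h2 h3 => le_antisymm (hB.2 ⟨h1, h2⟩ h3) h3⟩
    obtain ⟨hB0, hBmax⟩ := hBmax
    obtain ⟨a, haA, haB⟩ := SetLike.not_le_iff_exists.1
      (show ¬ A ≤ B from fun h => hB0 ((le_antisymm h hBA) ▸ hfix A hAn hA0))
    have hidx : Nat.card B * p = Nat.card A := by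
      by_cases hAB : A ≤ B ⊔ zpowers a
      · have h1 := PLocal.card_sup_mul_card_inf (H := B) (K := zpowers a) (fun g hg => by
          refine (centralizer_le_normalizer (B : Set ρ.range)) (mem_centralizer_iff.2 fun b hb => ?_)
          exact hcomm b (hBA hb) g (zpowers_le.2 haA hg))
        have hao : orderOf a = p := orderOf_eq_prime (hAel.2 a haA) fun e => haB (e ▸ one_mem B)
        have h2 : B ⊓ zpowers a = ⊥ := by
          refine le_bot_iff.1 fun y hy => ?_
          obtain ⟨i, rfl⟩ := mem_zpowers_iff.1 hy.2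
          by_contra hy1
          have hyo : orderOf (a ^ i) = p := orderOf_eq_prime (hAel.2 _ (zpowers_le.2 haA hy.2)) hy1
          have : zpowers (a ^ i) = zpowers a := eq_of_le_of_card_ge (zpowers_le.2 hy.2)
            (by rw [Nat.card_zpowers, Nat.card_zpowers, hao, hyo])
          exact haB ((zpowers_le.2 hy.1) (this ▸ mem_zpowers a))
        rw [h2, Subgroup.card_bot, mul_one, Nat.card_zpowers, hao,
          le_antisymm (sup_le hBA (zpowers_le.2 haA)) hAB] at h1
        exact h1.symm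
      · exfalso
        obtain ⟨b, hbA, hbB⟩ := SetLike.not_le_iff_exists.1 hAB
        set W := CU B with hW
        have hstab : ∀ c ∈ A, (c : MulAut U) ∈ stabAut W := by
          intro c hc
          refine le_antisymm ?_ fun w hw => ⟨((c⁻¹ : ρ.range) : MulAut U) w, hCU.2 fun d hd => ?_, ?_⟩
          · rintro _ ⟨w, hw, rfl⟩
            refine hCU.2 fun d hd => ?_
            show (d : MulAut U) ((c : MulAut U) w) = (c : MulAut U) w
            rw [← MulAut.mul_apply, ← Subgroup.coe_mul, (hcomm d (hBA hd) c hc).eq, Subgroup.coe_mul,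
              MulAut.mul_apply, hCU.1 hw d hd]
          · rw [← MulAut.mul_apply, ← Subgroup.coe_mul, (hcomm d (hBA hd) _ (inv_mem hc)).eq,
              Subgroup.coe_mul, MulAut.mul_apply, hCU.1 hw d hd]
          · show (c : MulAut U) (((c⁻¹ : ρ.range) : MulAut U) w) = w
            rw [← MulAut.mul_apply, ← Subgroup.coe_mul, mul_inv_cancel, Subgroup.coe_one, MulAut.one_apply]
        let sa := stabHom W ⟨_, hstab a haA⟩
        let sb := stabHom W ⟨_, hstab b hbA⟩
        have hpow : ∀ {c : ρ.range} (hc : c ∈ A), (stabHom W ⟨_, hstab c hc⟩) ^ p = 1 := fun {c} hc => by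
          rw [← map_pow, show (⟨_, hstab c hc⟩ : stabAut W) ^ p = 1 from Subtype.ext (by
            show ((c : MulAut U)) ^ p = 1
            rw [← Subgroup.coe_pow, hAel.2 c hc]; rfl), map_one]
        obtain ⟨w₀, hw₀, hw₀1⟩ := (Subgroup.bot_or_exists_ne_one W).resolve_left hB0
        have hcopW : ¬ p ∣ Nat.card W := fun hd => hcopU (hd.trans (card_subgroup_dvd_card W))
        refine hw₀1 (congrArg Subtype.val (eq_one_of_pow hcopW (w := (⟨w₀, hw₀⟩ : W)) (mem_bot.1 ?_)))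
        refine Coprime.pow_mem_of_pair_aut sa sb ?_ hp.out (hpow haA) (hpow hbA) ⊥ (fun i j hij v hv => ?_) _
        · refine (show Commute (⟨_, hstab a haA⟩ : stabAut W) ⟨_, hstab b hbA⟩ from Subtype.ext ?_).map _
          exact congrArg (fun q : ρ.range => (q : MulAut U)) (hcomm a haA b hbA).eq
        rw [mem_bot]
        set c := a ^ i * b ^ j with hc
        have hcA : c ∈ A := mul_mem (pow_mem haA i) (pow_mem hbA j)
        have hcv : (c : MulAut U) (v : U) = v := by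
          have h1 : stabHom W ((⟨_, hstab a haA⟩ : stabAut W) ^ i * (⟨_, hstab b hbA⟩ : stabAut W) ^ j) v = v := by
            rw [map_mul, map_pow, map_pow]; exact hv
          exact congrArg Subtype.val h1
        have hcB : c ∉ B := by
          intro hcB
          have hbo : orderOf b = p := orderOf_eq_prime (hAel.2 b hbA) fun e => hbB (e ▸ one_mem _)
          have hao : orderOf a = p := orderOf_eq_prime (hAel.2 a haA) fun e => haB (e ▸ one_mem B)
          by_cases hj : p ∣ j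
          · obtain ⟨l, rfl⟩ := hj
            rw [hc, pow_mul, hAel.2 b hbA, one_pow, mul_one] at hcB
            exact haB (Coprime.mem_of_pow_mem (H := B) (n := i)
              (hao ▸ hp.out.coprime_iff_not_dvd.2 fun h => hij ⟨h, dvd_mul_right _ _⟩) hcB)
          · refine hbB (Coprime.mem_of_pow_mem (H := B ⊔ zpowers a) (n := j)
              (hbo ▸ hp.out.coprime_iff_not_dvd.2 hj) ?_)
            have := mul_mem (inv_mem (mem_sup_right (pow_mem (mem_zpowers a) i) : a ^ i ∈ B ⊔ zpowers a))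
              (mem_sup_left hcB : c ∈ B ⊔ zpowers a)
            rwa [hc, inv_mul_cancel_left] at this
        by_contra hv1
        have hne : CU (B ⊔ zpowers c) ≠ ⊥ := fun e => by
          refine hv1 (Subtype.ext (mem_bot.1 (e ▸ (?_ : (v : U) ∈ CU (B ⊔ zpowers c)))))
          refine hCU.2 fun d hd => ?_
          have hle : B ⊔ zpowers c ≤ (MulAction.stabilizer (MulAut U) (v : U)).comap ρ.range.subtype :=
            sup_le (fun d hd => hCU.1 v.2 d hd) (zpowers_le.2 hcv)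
          exact hle hd
        exact hcB ((hBmax _ (sup_le hBA (zpowers_le.2 hcA)) hne le_sup_left) ▸
          mem_sup_right (mem_zpowers c))
    -- the components form a sub-system
    let 𝒰 : Set (Subgroup V) := {Y | ∃ B' ≤ A, Nat.card B' * p = Nat.card A ∧ (CU B').map U.subtype = Y}
    have hle : ∀ Y ∈ 𝒰, Y ≤ U := by rintro _ ⟨B', -, -, rfl⟩; exact map_subtype_le _
    have hinv : ∀ γ ∈ Γ, U.map γ.toMonoidHom = U → ∀ Y ∈ 𝒰, Y.map γ.toMonoidHom ∈ 𝒰 := by
      rintro γ h1 h2 _ ⟨B', hB', hc, rfl⟩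
      refine ⟨_, ?_, ?_, (hCUimg B' γ h1 h2).symm⟩
      · rintro _ ⟨d, hd, rfl⟩; exact hAn.conj_mem d (hB' hd) _
      · rw [card_map_of_injective (MulAut.conj _).injective, hc]
    have hind : sSupIndep 𝒰 := by
      rintro _ ⟨B₁, hB₁, hc₁, rfl⟩
      haveI := Fintype.ofFinite B₁
      let N : U →* U :=
        { toFun := fun w => ∏ d : B₁, ((d : ρ.range) : MulAut U) w
          map_one' := by simp
          map_mul' := fun x y => by simp only [map_mul, Finset.prod_mul_distrib] }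
      have hker : sSup (𝒰 \ {(CU B₁).map U.subtype}) ≤ N.ker.map U.subtype := by
        refine sSup_le ?_
        rintro _ ⟨⟨B₂, hB₂, hc₂, rfl⟩, hne⟩
        refine map_mono fun w hw => MonoidHom.mem_ker.2 ?_
        have hB12 : B₁ ⊔ B₂ = A := by
          refine eq_of_le_of_card_ge (sup_le hB₁ hB₂) ?_
          have hlt : Nat.card B₁ < Nat.card ↥(B₁ ⊔ B₂) := by
            by_contra hge
            push Not at hge
            have e := eq_of_le_of_card_ge (le_sup_left : B₁ ≤ B₁ ⊔ B₂) hge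
            have : B₂ = B₁ := eq_of_le_of_card_ge (e ▸ le_sup_right)
              (Nat.eq_of_mul_eq_mul_right hp.out.pos (hc₁.trans hc₂.symm)).le
            exact hne (this ▸ rfl)
          obtain ⟨i, hi⟩ := IsPGroup.iff_card.1 (hAp.to_le hB₁)
          obtain ⟨j, hj⟩ := IsPGroup.iff_card.1 (hAp.to_le (sup_le hB₁ hB₂))
          rw [hi, hj] at hlt
          rw [← hc₁, hi, hj, ← pow_succ]
          exact Nat.pow_le_pow_right hp.out.pos ((Nat.pow_lt_pow_iff_right hp.out.one_lt).1 hlt)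
        have hNfix : N w ∈ CU A := by
          have hle : B₁ ⊔ B₂ ≤ (MulAction.stabilizer (MulAut U) (N w)).comap ρ.range.subtype := by
            refine sup_le (fun e he => ?_) fun e he => ?_
            · show (e : MulAut U) (∏ d : B₁, ((d : ρ.range) : MulAut U) w) = _
              rw [map_prod]
              refine Fintype.prod_equiv (Equiv.mulLeft ⟨e, he⟩) _ _ fun d => ?_
              rfl
            · show (e : MulAut U) (∏ d : B₁, ((d : ρ.range) : MulAut U) w) = _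
              rw [map_prod]
              refine Finset.prod_congr rfl fun d _ => ?_
              rw [← MulAut.mul_apply, ← Subgroup.coe_mul, (hcomm e (hB₂ he) d (hB₁ d.2)).eq,
                Subgroup.coe_mul, MulAut.mul_apply, hCU.1 hw e he]
          exact hCU.2 fun e he => hle (hB12.ge he)
        exact mem_bot.1 (hfix A hAn hA0 ▸ hNfix)
      refine Disjoint.mono_right hker (disjoint_iff.2 (le_bot_iff.1 ?_))
      rintro _ ⟨⟨w, hw, rfl⟩, w', hw', e⟩
      obtain rfl := U.subtype_injective e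
      rw [mem_bot]
      have h1 : w' ^ Nat.card B₁ = 1 := by
        have h2 : ∏ d : B₁, ((d : ρ.range) : MulAut U) w' = 1 := MonoidHom.mem_ker.1 hw'
        rwa [Finset.prod_congr rfl (fun (d : B₁) _ => hCU.1 hw (d : ρ.range) d.2), Finset.prod_const, Finset.card_univ,
          ← Nat.card_eq_fintype_card] at h2
      obtain ⟨i, hi⟩ := IsPGroup.iff_card.1 (hAp.to_le hB₁)
      have hw1 : w' = 1 := orderOf_eq_one_iff.1 (Nat.eq_one_of_dvd_coprimes
        ((hp.out.coprime_iff_not_dvd.2 hcopU).pow_left i) (hi ▸ orderOf_dvd_of_pow_eq_one h1)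
        (orderOf_dvd_natCard w'))
      rw [hw1, map_one]
    have hBne : (CU B).map U.subtype ≠ ⊥ := fun e =>
      hB0 ((map_eq_bot_iff_of_injective _ U.subtype_injective).1 e)
    have h1 := hsub 𝒰 hle hind hinv _ ⟨B, hBA, hidx, rfl⟩ hBne
    have h2 : B = ⊥ := hfaith B (map_injective U.subtype_injective
      (by rw [h1, ← MonoidHom.range_eq_map, range_subtype]))
    rw [h2, Subgroup.card_bot, one_mul] at hidx
    omega
  -- conclusion
  suffices ∃ w : U, ∀ l ∈ R, l ≠ 1 → l ^ p = 1 → (l : MulAut U) w ≠ w by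
    obtain ⟨w, hw⟩ := this
    refine ⟨w, w.2, fun π hπ hπΓ hπU hπp hmove hfixw => ?_⟩
    refine hw (f ⟨π, hπΓ, hπU⟩) ⟨⟨π, hπΓ, hπU⟩, mem_subgroupOf.2 hπ, rfl⟩ ?_ ?_ (Subtype.ext ?_)
    · intro e
      obtain ⟨u, hu, hne⟩ := hmove
      have h1 := hfU π hπΓ hπU ⟨u, hu⟩
      rw [e] at h1
      exact hne h1.symm
    · rw [← map_pow, show (⟨π, hπΓ, hπU⟩ : St) ^ p = 1 from Subtype.ext hπp, map_one]
    · rw [hfU π hπΓ hπU w, hfixw]
  by_cases hR0 : R = ⊥
  · exact ⟨1, fun l hl hl1 => absurd (mem_bot.1 (hR0 ▸ hl)) hl1⟩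
  obtain ⟨E, hES, hexp, hall, hcen⟩ := exists_omega_es hp2 hRp hR0 hA
  set φ : E →* MulAut U := ρ.range.subtype.comp (R.subtype.comp E.subtype) with hφ
  let Om : Subgroup R :=
    { carrier := {x | x ∈ center R ∧ x ^ p = 1}
      one_mem' := ⟨one_mem _, one_pow p⟩
      mul_mem' := fun {x y} hx hy => ⟨mul_mem hx.1 hy.1, by
        rw [(show Commute x y from (mem_center_iff.1 hy.1 x)).mul_pow, hx.2, hy.2, one_mul]⟩
      inv_mem' := fun {x} hx => ⟨inv_mem hx.1, by rw [inv_pow, hx.2, inv_one]⟩ }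
  have hOmn : (Om.map R.subtype).Normal := ⟨by
    rintro _ ⟨x, hx, rfl⟩ l
    refine ⟨MulAut.conjNormal l x, ⟨mem_center_iff.2 fun g => ?_, by rw [← map_pow, hx.2, map_one]⟩, by simp⟩
    obtain ⟨g, rfl⟩ := (MulAut.conjNormal l : R ≃* R).surjective g
    rw [← map_mul, ← map_mul, mem_center_iff.1 hx.1 g]⟩
  have hz : ∀ z ∈ center E, z ≠ 1 → ∀ w, φ z w = w → w = 1 := by
    intro z hzc hz1 w hw
    have hzOm : (z : R) ∈ Om := ⟨hcen z hzc, hexp _ z.2⟩
    have hle : zpowers ((z : R) : ρ.range) ≤ Om.map R.subtype :=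
      zpowers_le.2 (mem_map_of_mem R.subtype hzOm)
    have hzo : orderOf ((z : R) : ρ.range) = p := by
      refine orderOf_eq_prime ?_ fun e => hz1 (Subtype.ext (Subtype.ext e))
      rw [← Subgroup.coe_pow, hexp _ z.2]; rfl
    have hOmc : Nat.card (Om.map R.subtype) ≤ p := by
      refine hA _ hOmn (map_subtype_le _) ⟨⟨⟨?_⟩⟩, ?_⟩
      · rintro ⟨_, x, hx, rfl⟩ ⟨_, y, hy, rfl⟩
        exact Subtype.ext (congrArg R.subtype (mem_center_iff.1 hy.1 x))
      · rintro _ ⟨x, hx, rfl⟩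
        rw [← map_pow, hx.2, map_one]
    have heq : zpowers ((z : R) : ρ.range) = Om.map R.subtype :=
      eq_of_le_of_card_ge hle (by rw [Nat.card_zpowers, hzo]; exact hOmc)
    have h0 : Om.map R.subtype ≠ ⊥ := by
      intro e
      rw [← heq, zpowers_eq_bot] at e
      rw [e, orderOf_one] at hzo
      exact hp.out.ne_one hzo.symm
    have hmem : w ∈ CU (Om.map R.subtype) := by
      refine hCU.2 fun d hd => ?_
      rw [← heq] at hd
      have hle' : zpowers ((z : R) : ρ.range) ≤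
          (MulAction.stabilizer (MulAut U) w).comap ρ.range.subtype := zpowers_le.2 hw
      exact hle' hd
    exact mem_bot.1 (hfix _ hOmn h0 ▸ hmem)
  obtain ⟨w, hw⟩ := exists_moved hp2 hES (fun e => Subtype.ext (hexp e e.2)) hcopU hz
  refine ⟨w, fun l hl hl1 hlp => ?_⟩
  have hmemE : (⟨l, hl⟩ : R) ∈ E := hall _ (Subtype.ext hlp)
  exact hw ⟨⟨l, hl⟩, hmemE⟩ fun e => hl1 (congrArg (fun q : E => ((q : R) : ρ.range)) e)

/-- Some vector is moved by all conjugates of an element of order `p` in a normal `p`-subgroup. -/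
theorem exists_moved_module [Nontrivial V] (hp2 : p ≠ 2) (hcop : ¬ p ∣ Nat.card V)
    {Γ Pi : Subgroup (MulAut V)} (hPiΓ : Pi ≤ Γ) (hn : ∀ γ ∈ Γ, ∀ π ∈ Pi, γ * π * γ⁻¹ ∈ Pi)
    (hPi : IsPGroup p Pi)
    (hirr : ∀ U : Subgroup V, (∀ γ ∈ Γ, ∀ u ∈ U, γ u ∈ U) → U = ⊥ ∨ U = ⊤)
    {α : MulAut V} (hα : α ∈ Pi) (hα1 : α ≠ 1) (hαp : α ^ p = 1) :
    ∃ v : V, ∀ γ ∈ Γ, (γ * α * γ⁻¹) v ≠ v := by
  classical
  let S : Set (Subgroup V) := {U | U ≠ ⊥ ∧ sSupIndep (orbSet Γ U)}
  have hne : S.Nonempty := ⟨⊤, top_ne_bot, by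
    have : orbSet Γ (⊤ : Subgroup V) = {⊤} := by
      ext X
      refine ⟨?_, fun hX => ⟨1, one_mem Γ, by rw [Set.mem_singleton_iff.1 hX]; exact Subgroup.map_id _⟩⟩
      rintro ⟨γ, -, rfl⟩
      exact Subgroup.map_top_of_surjective _ γ.surjective
    rw [this]; exact sSupIndep_singleton _⟩
  obtain ⟨U, ⟨hU0, hU⟩, hmin⟩ := Set.exists_min_image S (fun U => Nat.card U) (Set.toFinite S) hne
  set O := orbSet Γ U with hO
  have hOinv : ∀ γ ∈ Γ, ∀ X ∈ O, X.map γ.toMonoidHom ∈ O := by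
    rintro γ hγ _ ⟨δ, hδ, rfl⟩
    exact ⟨γ * δ, mul_mem hγ hδ, (map_map_aut γ δ U).symm⟩
  have hOtop : sSup O = ⊤ := by
    refine (hirr (sSup O) fun γ hγ u hu => ?_).resolve_left fun e => hU0 (le_bot_iff.1 ?_)
    · have h1 : (sSup O).map γ.toMonoidHom ≤ sSup O := by
        rw [map_le_iff_le_comap]
        exact sSup_le fun X hX => map_le_iff_le_comap.1 (le_sSup (hOinv γ hγ X hX))
      exact h1 ⟨u, hu, rfl⟩
    · exact e ▸ le_sSup ⟨1, one_mem Γ, Subgroup.map_id U⟩
  have hconjp : ∀ γ ∈ Γ, (γ * α * γ⁻¹) ^ p = 1 := fun γ _ => by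
    rw [conj_pow, hαp, mul_one, mul_inv_cancel]
  by_cases hK : ∀ X ∈ O, X.map α.toMonoidHom = X
  · -- all conjugates fix all blocks
    obtain ⟨w, hwU, hw⟩ := exists_moved_block hp2 hn hPi hcop hU0 hU fun U₀ h0 h1 => hmin U₀ ⟨h0, h1⟩
    have hch : ∀ X : O, ∃ γ ∈ Γ, U.map γ.toMonoidHom = (X : Subgroup V) := fun X => X.2
    choose c hc hcX using hch
    let f : Subgroup V → V := fun X => if h : X ∈ O then c ⟨X, h⟩ w else 1
    have hfX : ∀ {X} (hX : X ∈ O), f X = c ⟨X, hX⟩ w := fun hX => dif_pos hX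
    have hfmem : ∀ X ∈ O, f X ∈ X := fun X hX => by
      rw [hfX hX]
      exact (hcX ⟨X, hX⟩).le ⟨w, hwU, rfl⟩
    let T := (Set.toFinite O).toFinset
    refine ⟨∏ X ∈ T, f X, fun γ hγ hfix => ?_⟩
    set β := γ * α * γ⁻¹ with hβ
    have hβPi : β ∈ Pi := hn γ hγ α hα
    have hβX : ∀ X ∈ O, X.map β.toMonoidHom = X := by
      intro X hX
      rw [hβ, mul_assoc, ← map_map_aut, ← map_map_aut, hK _ (hOinv _ (inv_mem hγ) X hX), map_map_aut,
        mul_inv_cancel]
      exact Subgroup.map_id X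
    have hone : ∀ X ∈ O, β (f X) = f X := fun X hX => by
      have h1 := prod_eq_one_of_indep hU (T := T) (by simp [T, hO]) (f := fun X => β (f X) * (f X)⁻¹)
        (fun X hX => by
          have hX' : X ∈ O := by simpa [T] using hX
          exact mul_mem ((mem_map_iff_of_eq (hβX X hX')).2 (hfmem X hX')) (inv_mem (hfmem X hX')))
        (by rw [Finset.prod_mul_distrib, Finset.prod_inv_distrib, ← map_prod, hfix, mul_inv_cancel])
        X (by simpa [T] using hX)
      exact mul_inv_eq_one.1 h1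
    have hβ1 : β ≠ 1 := fun e => hα1 (by rwa [hβ, mul_inv_eq_one, mul_eq_left] at e)
    refine hβ1 (MulEquiv.ext fun u => ?_)
    have hu : u ∈ sSup O := hOtop ▸ mem_top u
    have hle : sSup O ≤ fixAut β := by
      refine sSup_le fun X hX x hx => ?_
      by_contra hxne
      set δ := c ⟨X, hX⟩ with hδdef
      have hδ : δ ∈ Γ := hc ⟨X, hX⟩
      have hδX : U.map δ.toMonoidHom = X := hcX ⟨X, hX⟩
      set π := δ⁻¹ * β * δ with hπ
      have hπPi : π ∈ Pi := by have := hn δ⁻¹ (inv_mem hδ) β hβPi; rwa [inv_inv] at this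
      have hπU : U.map π.toMonoidHom = U := by
        rw [hπ, mul_assoc, ← map_map_aut, ← map_map_aut, hδX, hβX X hX, ← hδX, map_map_aut, inv_mul_cancel]
        exact Subgroup.map_id U
      refine hw π hπPi (hPiΓ hπPi) hπU ?_ ⟨δ⁻¹ x, ?_, ?_⟩ ?_
      · rw [hπ]
        have h1 := conj_pow (i := p) (a := δ⁻¹) (b := β)
        rw [inv_inv] at h1
        rw [h1, hconjp γ hγ, mul_one, inv_mul_cancel]
      · rw [← hδX] at hx
        obtain ⟨y, hy, rfl⟩ := hx
        show δ⁻¹ (δ y) ∈ U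
        rwa [← MulAut.mul_apply, inv_mul_cancel, MulAut.one_apply]
      · rw [hπ, MulAut.mul_apply, MulAut.mul_apply, show δ (δ⁻¹ x) = x from δ.apply_symm_apply x]
        exact fun e => hxne ((δ⁻¹).injective e)
      · have h1 := hone X hX
        rw [hfX hX, ← hδdef] at h1
        rw [hπ, MulAut.mul_apply, MulAut.mul_apply, h1, ← MulAut.mul_apply, inv_mul_cancel, MulAut.one_apply]
    exact hle hu
  · -- no conjugate fixes all blocks
    push Not at hK
    obtain ⟨X₀, hX₀, hX₀ne⟩ := hK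
    let : MulAction Pi O :=
      { smul := fun π X => ⟨(X : Subgroup V).map (π : MulAut V).toMonoidHom, hOinv _ (hPiΓ π.2) _ X.2⟩
        one_smul := fun X => Subtype.ext (Subgroup.map_id _)
        mul_smul := fun a b X => Subtype.ext (map_map_aut (a : MulAut V) b X).symm }
    obtain ⟨S', hS'⟩ := exists_regular_set (Ω := O) hp2 hPi ⊤
    have hch : ∀ X : O, ∃ x ∈ (X : Subgroup V), x ≠ 1 := fun X => by
      obtain ⟨γ, -, hγX⟩ := X.2
      refine (Subgroup.bot_or_exists_ne_one _).resolve_left fun e => hU0 ?_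
      exact (map_eq_bot_iff_of_injective _ γ.injective).1 (hγX.trans e)
    choose x hx hx1 using hch
    let f : Subgroup V → V := fun X => if h : X ∈ O then x ⟨X, h⟩ else 1
    let T := (Set.toFinite (Subtype.val '' S')).toFinset
    refine ⟨∏ X ∈ T, f X, fun γ hγ hfix => ?_⟩
    set β := γ * α * γ⁻¹ with hβ
    have hβPi : β ∈ Pi := hn γ hγ α hα
    have hmem : ∀ X : O, X ∈ S' → (⟨β, hβPi⟩ : Pi) • X ∈ S' := by
      intro X hXS
      by_contra hnot
      set Y := ((⟨β, hβPi⟩ : Pi) • X : O) with hY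
      have hXT : (X : Subgroup V) ∈ T := by simp [T, hXS]
      have hfXv : f X = x X := dif_pos X.2
      have hYimg : (Y : Subgroup V) = (X : Subgroup V).map β.toMonoidHom := rfl
      have h1 : β (f X) ∈ (Y : Subgroup V) := hYimg ▸ ⟨_, hfXv ▸ hx X, rfl⟩
      have hTO : ∀ Z ∈ T, Z ∈ O ∧ f Z ∈ Z ∧ ∀ hZ : Z ∈ O, (⟨Z, hZ⟩ : O) ∈ S' := by
        intro Z hZ
        simp only [T, Set.Finite.mem_toFinset, Set.mem_image] at hZ
        obtain ⟨Z', hZ', rfl⟩ := hZ
        exact ⟨Z'.2, by rw [show f Z' = x Z' from dif_pos Z'.2]; exact hx Z', fun _ => hZ'⟩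
      have h2 : β (f X) ∈ sSup (O \ {(Y : Subgroup V)}) := by
        have h3 : β (f X) = (∏ Z ∈ T, f Z) * (∏ Z ∈ T.erase X, β (f Z))⁻¹ := by
          conv_rhs => rw [← hfix, map_prod, ← Finset.mul_prod_erase T _ hXT, mul_inv_cancel_right]
        rw [h3]
        refine mul_mem (Subgroup.prod_mem _ fun Z hZ => ?_) (inv_mem (Subgroup.prod_mem _ fun Z hZ => ?_))
        · obtain ⟨hZO, hfZ, hZS⟩ := hTO Z hZ
          refine le_sSup (show Z ∈ O \ {(Y : Subgroup V)} from ⟨hZO, fun e => hnot ?_⟩) hfZ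
          rw [← show (⟨Z, hZO⟩ : O) = Y from Subtype.ext (Set.mem_singleton_iff.1 e)]
          exact hZS hZO
        · obtain ⟨hZO, hfZ, -⟩ := hTO Z (Finset.mem_of_mem_erase hZ)
          refine le_sSup (show Z.map β.toMonoidHom ∈ O \ {(Y : Subgroup V)} from
            ⟨hOinv β (hPiΓ hβPi) Z hZO, fun e => Finset.ne_of_mem_erase hZ ?_⟩) ⟨_, hfZ, rfl⟩
          exact map_injective β.injective ((Set.mem_singleton_iff.1 e).trans hYimg)
      have h4 : β (f X) = 1 := mem_bot.1 ((hU Y.2).le_bot ⟨h1, h2⟩)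
      refine hx1 X ?_
      rw [← hfXv]
      exact β.injective (h4.trans (map_one β).symm)
    have hiff : ∀ X : O, (⟨β, hβPi⟩ : Pi) • X ∈ S' ↔ X ∈ S' := by
      intro X
      refine ⟨fun h => ?_, hmem X⟩
      have h1 : (fun Y => (⟨β, hβPi⟩ : Pi) • Y) '' S' = S' := Set.eq_of_subset_of_ncard_le
        (by rintro _ ⟨Y, hY, rfl⟩; exact hmem Y hY)
        (by rw [Set.ncard_image_of_injective _ (MulAction.injective _)])
      rw [← h1] at h
      obtain ⟨Y, hY, e⟩ := h
      rwa [← MulAction.injective _ e]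
    have h5 := congrArg Subtype.val
      (hS' ⟨β, hβPi⟩ (mem_top _) hiff ⟨_, hOinv γ hγ X₀ hX₀⟩)
    refine hX₀ne ?_
    have h6 : (X₀.map γ.toMonoidHom).map β.toMonoidHom = X₀.map γ.toMonoidHom := h5
    rw [map_map_aut, hβ, inv_mul_cancel_right, ← map_map_aut] at h6
    exact map_injective γ.injective h6

end Cfsg.Agent.ClassSubnormal
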