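import Cfsg.Agent.EqLemmas
import Mathlib.GroupTheory.PGroup
import Mathlib.GroupTheory.GroupAction.Basic
import Mathlib.GroupTheory.Nilpotent

/-!
# A regular orbit on subsets for `p`-groups of odd order

`exists_regular_set`: a finite `p`-group (`p` odd) acting on a finite set `Ω` has a subset `S`
whose setwise stabilizer acts trivially on `Ω`.
-/

open Subgroup

namespace Cfsg.Agent.ClassSubnormal

set_option linter.unusedSectionVars false

variable {P : Type*} [Group P] [Finite P] {p : ℕ} [hp : Fact p.Prime] {Ω : Type*} [Finite Ω]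
  [MulAction P Ω]

theorem exists_regular_set (hp2 : p ≠ 2) (hP : IsPGroup p P) :
    ∀ Q : Subgroup P, ∃ S : Set Ω, ∀ g ∈ Q, (∀ x : Ω, g • x ∈ S ↔ x ∈ S) → ∀ x : Ω, g • x = x := by
  intro Q
  induction Q using WellFoundedLT.induction with
  | _ Q ih =>
    classical
    by_cases htriv : ∀ g ∈ Q, ∀ x : Ω, g • x = x
    · exact ⟨∅, fun g hg _ => htriv g hg⟩
    push Not at htriv
    obtain ⟨g₀, hg₀, x₀, hgx⟩ := htriv
    -- a maximal subgroup of `Q` containing the stabiliser of `x₀`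
    have hst : (MulAction.stabilizer P x₀).subgroupOf Q ≠ ⊤ := fun e =>
      hgx (MulAction.mem_stabilizer_iff.1 (subgroupOf_eq_top.1 e hg₀))
    obtain ⟨M₁, hM₁, hle⟩ := (eq_top_or_exists_le_coatom _).resolve_left hst
    haveI : Group.IsNilpotent Q := (hP.to_subgroup Q).isNilpotent
    haveI hM₁n : M₁.Normal := Subgroup.NormalizerCondition.normal_of_coatom M₁
      Group.normalizerCondition_of_isNilpotent hM₁
    set M := M₁.map Q.subtype with hM
    have hMQ : M ≤ Q := map_subtype_le _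
    have hlt : M < Q := lt_of_le_of_ne hMQ fun e => hM₁.1 (map_injective Q.subtype_injective
      (by rw [← hM, e, ← MonoidHom.range_eq_map, range_subtype]))
    have hnorm : ∀ g ∈ Q, ∀ k ∈ M, g * k * g⁻¹ ∈ M := by
      rintro g hg _ ⟨k, hk, rfl⟩
      exact ⟨⟨g, hg⟩ * k * (⟨g, hg⟩ : Q)⁻¹, hM₁n.conj_mem k hk _, rfl⟩
    have hstM : ∀ g ∈ Q, g • x₀ = x₀ → g ∈ M := fun g hg he =>
      ⟨⟨g, hg⟩, hle (mem_subgroupOf.2 (MulAction.mem_stabilizer_iff.2 he)), rfl⟩
    obtain ⟨S₀, hS₀⟩ := ih M hlt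
    let orb : Ω → Set Ω := fun x => MulAction.orbit M x
    have horb : ∀ x y : Ω, y ∈ orb x → orb y = orb x := fun x y h => MulAction.orbit_eq_iff.2 h
    have himg : ∀ g ∈ Q, ∀ x : Ω, (fun y => g • y) '' orb x = orb (g • x) := by
      intro g hg x
      ext y
      constructor
      · rintro ⟨_, ⟨⟨k, hk⟩, rfl⟩, rfl⟩
        refine ⟨⟨g * k * g⁻¹, hnorm g hg k hk⟩, ?_⟩
        show (g * k * g⁻¹) • g • x = g • k • x
        rw [smul_smul, smul_smul]; group
      · rintro ⟨⟨k, hk⟩, rfl⟩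
        refine ⟨(g⁻¹ * k * g) • x,
          ⟨⟨g⁻¹ * k * g, by simpa using hnorm g⁻¹ (inv_mem hg) k hk⟩, rfl⟩, ?_⟩
        show g • (g⁻¹ * k * g) • x = k • g • x
        rw [smul_smul, smul_smul]; group
    have hodd : ∀ x : Ω, Odd (orb x).ncard := by
      intro x
      obtain ⟨j, hj⟩ := (hP.to_subgroup M).card_orbit x
      rw [← Nat.card_coe_set_eq, show Nat.card (orb x) = p ^ j from hj]
      exact (hp.out.odd_of_ne_two hp2).pow
    let big : Ω → Prop := fun x => (orb x).ncard < 2 * (orb x ∩ S₀).ncard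
    let flip : Ω → Prop := fun x => ((x ∈ orb x₀) ↔ big x)
    let S : Set Ω := {x | x ∈ S₀ ↔ ¬ flip x}
    have hflip : ∀ {x y : Ω}, y ∈ orb x → (flip y ↔ flip x) := by
      intro x y h
      have e := horb x y h
      have h1 : y ∈ orb x₀ ↔ x ∈ orb x₀ := by
        constructor <;> intro hm
        · rw [← horb x₀ y hm, e]; exact MulAction.mem_orbit_self x
        · rw [← horb x₀ x hm, ← e]; exact MulAction.mem_orbit_self y
      show ((y ∈ orb x₀) ↔ big y) ↔ ((x ∈ orb x₀) ↔ big x)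
      simp only [big, e, h1]
    -- sizes
    have hsize : ∀ x : Ω, 2 * (orb x ∩ S).ncard < (orb x).ncard ↔ x ∈ orb x₀ := by
      intro x
      have hsplit := Set.ncard_inter_add_ncard_sdiff_eq_ncard (orb x) S₀ (Set.toFinite _)
      obtain ⟨t, ht⟩ := hodd x
      by_cases hf : flip x
      · have e : orb x ∩ S = orb x \ S₀ := by
          ext y
          refine and_congr_right fun hy => ?_
          show (y ∈ S₀ ↔ ¬ flip y) ↔ y ∉ S₀
          have := (hflip hy).2 hf
          tauto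
        rw [e]
        have hf' : x ∈ orb x₀ ↔ (orb x).ncard < 2 * (orb x ∩ S₀).ncard := hf
        rw [hf']; omega
      · have e : orb x ∩ S = orb x ∩ S₀ := by
          ext y
          refine and_congr_right fun hy => ?_
          show (y ∈ S₀ ↔ ¬ flip y) ↔ y ∈ S₀
          have := mt (hflip hy).1 hf
          tauto
        rw [e]
        have hf' : ¬ (x ∈ orb x₀ ↔ (orb x).ncard < 2 * (orb x ∩ S₀).ncard) := hf
        by_cases hx : x ∈ orb x₀
        · simp only [hx, true_iff, iff_true] at hf' ⊢; omega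
        · simp only [hx, false_iff, not_not, iff_false] at hf' ⊢; omega
    refine ⟨S, fun g hg hpres => ?_⟩
    by_cases hgM : g ∈ M
    · refine hS₀ g hgM fun x => ?_
      have h1 : (g • x ∈ S₀ ↔ ¬ flip (g • x)) ↔ (x ∈ S₀ ↔ ¬ flip x) := hpres x
      have h2 : flip (g • x) ↔ flip x := hflip ⟨⟨g, hgM⟩, rfl⟩
      tauto
    · exfalso
      have h0 : g • x₀ ∉ orb x₀ := by
        rintro ⟨⟨k, hk⟩, he⟩
        have he' : k • x₀ = g • x₀ := he
        have h1 : k⁻¹ * g ∈ M := hstM _ (mul_mem (inv_mem (hMQ hk)) hg) (by rw [mul_smul, ← he', inv_smul_smul])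
        exact hgM (by simpa using M.mul_mem hk h1)
      have himgS : (fun y => g • y) '' (orb x₀ ∩ S) = orb (g • x₀) ∩ S := by
        rw [← himg g hg x₀]
        ext y
        constructor
        · rintro ⟨a, ⟨ha, haS⟩, rfl⟩; exact ⟨⟨a, ha, rfl⟩, (hpres a).2 haS⟩
        · rintro ⟨⟨a, ha, rfl⟩, hS⟩; exact ⟨a, ⟨ha, (hpres a).1 hS⟩, rfl⟩
      have h1 := (hsize x₀).2 (MulAction.mem_orbit_self x₀)
      rw [← Set.ncard_image_of_injective _ (MulAction.injective g),
        ← Set.ncard_image_of_injective (orb x₀) (MulAction.injective g), himgS, himg g hg x₀] at h1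
      exact h0 ((hsize _).1 h1)

end Cfsg.Agent.ClassSubnormal
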